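import Groth.Agent.LC.CanonComplete
import Groth.Agent.S9231
import Groth.Agent.S0544
import Mathlib

/-!
# Unramified and étale local homomorphisms on completions
-/

universe u

open IsLocalRing

namespace Groth.Agent.EtLocal7

section

variable (A B : Type u) [CommRing A] [CommRing B] [IsLocalRing A] [IsLocalRing B] [IsNoetherianRing A]
  [IsNoetherianRing B] [Algebra A B] [IsLocalHom (algebraMap A B)]

local notation "Ah" => AdicCompletion (maximalIdeal A) A
local notation "Bh" => AdicCompletion (maximalIdeal B) B

theorem isLocalHom_algebraMap_completion (A : Type u) [CommRing A] [IsLocalRing A] [IsNoetherianRing A] :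
    IsLocalHom (algebraMap A (AdicCompletion (maximalIdeal A) A)) :=
  AdicCompletion.algebraMap_isLocalHom_of_fg (IsNoetherian.noetherian _)

theorem bijective_residue (A : Type u) [CommRing A] [IsLocalRing A] [IsNoetherianRing A] :
    haveI := isLocalHom_algebraMap_completion A
    Function.Bijective (ResidueField.map (algebraMap A (AdicCompletion (maximalIdeal A) A))) := by
  haveI := isLocalHom_algebraMap_completion A
  refine ⟨RingHom.injective _, fun y => ?_⟩
  obtain ⟨x, rfl⟩ := residue_surjective y
  obtain ⟨a, ha⟩ := Ideal.Quotient.mk_surjective (AdicCompletion.evalOneₐ (maximalIdeal A) x)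
  refine ⟨residue A a, ?_⟩
  rw [ResidueField.map_residue]
  refine (Ideal.Quotient.eq.mpr ?_)
  rw [AdicCompletion.maximalIdeal_eq_map, ← AdicCompletion.ker_evalOneₐ_eq_map _ (IsNoetherian.noetherian _),
    RingHom.mem_ker, map_sub, sub_eq_zero]
  exact ha.symm ▸ DFunLike.congr_fun (AdicCompletion.evalOneₐ_comp_algebraMap_eq_mk (maximalIdeal A)) a

variable {A B}
  (ψ : AdicCompletion (maximalIdeal A) A →+* AdicCompletion (maximalIdeal B) B)
  (hψ : ψ.comp (algebraMap A (AdicCompletion (maximalIdeal A) A)) =
    (algebraMap B (AdicCompletion (maximalIdeal B) B)).comp (algebraMap A B))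

include hψ in
theorem map_maximalIdeal_completion :
    (maximalIdeal Ah).map ψ = ((maximalIdeal A).map (algebraMap A B)).map (algebraMap B Bh) := by
  rw [AdicCompletion.maximalIdeal_eq_map, Ideal.map_map, hψ, Ideal.map_map]

include hψ in
theorem isLocalHom_completion : IsLocalHom ψ := by
  refine ((local_hom_TFAE ψ).out 0 2).mpr ?_
  rw [map_maximalIdeal_completion ψ hψ, AdicCompletion.maximalIdeal_eq_map (R := B)]
  exact Ideal.map_mono (map_maximalIdeal_le (algebraMap A B))

include hψ in
theorem map_eq_iff :
    (maximalIdeal Ah).map ψ = maximalIdeal Bh ↔ (maximalIdeal A).map (algebraMap A B) = maximalIdeal B := by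
  rw [map_maximalIdeal_completion ψ hψ, AdicCompletion.maximalIdeal_eq_map (R := B)]
  haveI := LC.Canon.faithfullyFlat_completion (R := B)
  refine ⟨fun h => ?_, fun h => by rw [h]⟩
  rw [← Ideal.comap_map_eq_self_of_faithfullyFlat (B := Bh) ((maximalIdeal A).map (algebraMap A B)), h,
    Ideal.comap_map_eq_self_of_faithfullyFlat]

end

variable (A B : Type u) [CommRing A] [CommRing B] [IsLocalRing A] [IsLocalRing B] [IsNoetherianRing A]
  [IsNoetherianRing B] [Algebra A B] [IsLocalHom (algebraMap A B)]
  [Algebra (AdicCompletion (maximalIdeal A) A) (AdicCompletion (maximalIdeal B) B)]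
  [IsLocalHom (algebraMap (AdicCompletion (maximalIdeal A) A) (AdicCompletion (maximalIdeal B) B))]
  (hψ : (algebraMap (AdicCompletion (maximalIdeal A) A) (AdicCompletion (maximalIdeal B) B)).comp
    (algebraMap A (AdicCompletion (maximalIdeal A) A)) =
    (algebraMap B (AdicCompletion (maximalIdeal B) B)).comp (algebraMap A B))

local notation "Ah" => AdicCompletion (maximalIdeal A) A
local notation "Bh" => AdicCompletion (maximalIdeal B) B

include hψ in
theorem finite_residue_iff :
    Module.Finite (ResidueField A) (ResidueField B) ↔ Module.Finite (ResidueField Ah) (ResidueField Bh) := by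
  haveI := isLocalHom_algebraMap_completion A
  haveI := isLocalHom_algebraMap_completion B
  let eA := RingEquiv.ofBijective _ (bijective_residue A)
  let eB := RingEquiv.ofBijective _ (bijective_residue B)
  have h : (algebraMap (ResidueField Ah) (ResidueField Bh)).comp eA.toRingHom =
      eB.toRingHom.comp (algebraMap (ResidueField A) (ResidueField B)) := by
    refine Ideal.Quotient.ringHom_ext (RingHom.ext fun a => ?_)
    show algebraMap (ResidueField Ah) (ResidueField Bh) (ResidueField.map (algebraMap A Ah) (residue A a)) =
      ResidueField.map (algebraMap B Bh) (algebraMap (ResidueField A) (ResidueField B) (residue A a))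
    rw [ResidueField.map_residue, ResidueField.algebraMap_residue, ResidueField.algebraMap_residue,
      ResidueField.map_residue]
    exact congrArg _ (DFunLike.congr_fun hψ a)
  rw [← RingHom.finite_algebraMap, ← RingHom.finite_algebraMap]
  constructor
  · intro hf
    have h1 : algebraMap (ResidueField Ah) (ResidueField Bh) =
        (eB.toRingHom.comp (algebraMap (ResidueField A) (ResidueField B))).comp eA.symm.toRingHom := by
      rw [← h, RingHom.comp_assoc, show eA.toRingHom.comp eA.symm.toRingHom = RingHom.id _ from
        RingHom.ext eA.apply_symm_apply, RingHom.comp_id]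
    rw [h1]
    exact ((RingHom.Finite.of_surjective _ eB.surjective).comp hf).comp (RingHom.Finite.of_surjective _ eA.symm.surjective)
  · intro hf
    have h1 : algebraMap (ResidueField A) (ResidueField B) =
        (eB.symm.toRingHom.comp (algebraMap (ResidueField Ah) (ResidueField Bh))).comp eA.toRingHom := by
      rw [RingHom.comp_assoc, h, ← RingHom.comp_assoc, show eB.symm.toRingHom.comp eB.toRingHom = RingHom.id _ from
        RingHom.ext eB.symm_apply_apply, RingHom.id_comp]
    rw [h1]
    exact ((RingHom.Finite.of_surjective _ eB.symm.surjective).comp hf).comp (RingHom.Finite.of_surjective _ eA.surjective)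

include hψ in
theorem separable_residue_iff :
    Algebra.IsSeparable (ResidueField A) (ResidueField B) ↔
      Algebra.IsSeparable (ResidueField Ah) (ResidueField Bh) := by
  haveI := isLocalHom_algebraMap_completion A
  haveI := isLocalHom_algebraMap_completion B
  refine Algebra.IsSeparable.iff_of_equiv_equiv (RingEquiv.ofBijective _ (bijective_residue A))
    (RingEquiv.ofBijective _ (bijective_residue B)) (Ideal.Quotient.ringHom_ext (RingHom.ext fun a => ?_))
  show algebraMap (ResidueField Ah) (ResidueField Bh) (ResidueField.map (algebraMap A Ah) (residue A a)) =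
    ResidueField.map (algebraMap B Bh) (algebraMap (ResidueField A) (ResidueField B) (residue A a))
  rw [ResidueField.map_residue, ResidueField.algebraMap_residue, ResidueField.algebraMap_residue,
    ResidueField.map_residue]
  exact congrArg _ (DFunLike.congr_fun hψ a)

include hψ in
theorem finite_completion (hm : (maximalIdeal A).map (algebraMap A B) = maximalIdeal B)
    [Module.Finite (ResidueField A) (ResidueField B)] : Module.Finite Ah Bh := by
  haveI := LC.Canon.isNoetherianRing_completion (R := A)
  haveI := LC.Canon.isNoetherianRing_completion (R := B)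
  haveI hc : IsAdicComplete (maximalIdeal Ah) Ah := inferInstance
  haveI hb : IsAdicComplete (maximalIdeal Bh) Bh := inferInstance
  have hmh : (maximalIdeal Ah).map (algebraMap Ah Bh) = maximalIdeal Bh := (map_eq_iff _ hψ).mpr hm
  have hle : ∀ n : ℕ, ((maximalIdeal Ah) ^ n • ⊤ : Submodule Ah Bh) ≤
      (maximalIdeal Bh ^ n • ⊤ : Submodule Bh Bh).restrictScalars Ah := by
    intro n
    rw [Submodule.smul_le]
    intro r hr x _
    show r • x ∈ ((maximalIdeal Bh ^ n) • ⊤ : Submodule Bh Bh)
    simp only [Algebra.smul_def, smul_eq_mul, Ideal.mul_top, Algebra.algebraMap_self, RingHom.id_apply]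
    refine Ideal.mul_mem_right _ _ ?_
    rw [← hmh, ← Ideal.map_pow]
    exact Ideal.mem_map_of_mem _ hr
  haveI : IsHausdorff (maximalIdeal Ah) Bh := ⟨fun x hx => hb.haus x fun n => by
    have := hx n
    rw [SModEq.sub_mem] at this ⊢
    exact hle n this⟩
  refine Groth.Agent.S0544.result Ah (maximalIdeal Ah) Bh ?_
  have hκ : Module.Finite (ResidueField Ah) (ResidueField Bh) := (finite_residue_iff A B hψ).mp inferInstance
  haveI : Module.Finite Ah (Bh ⧸ maximalIdeal Bh) :=
    (Module.Finite.trans (ResidueField Ah) (ResidueField Bh) : Module.Finite Ah (ResidueField Bh))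
  have h1 : ((maximalIdeal Ah) • ⊤ : Submodule Ah Bh) = (maximalIdeal Bh).restrictScalars Ah := by
    rw [Ideal.smul_top_eq_map, hmh]
  rw [h1]
  exact Module.Finite.equiv
    ((Submodule.Quotient.restrictScalarsEquiv Ah (maximalIdeal Bh)).symm.restrictScalars Ah)

include hψ in
theorem unramified_iff [Algebra.EssFiniteType Ah Bh] :
    ((maximalIdeal A).map (algebraMap A B) = maximalIdeal B ∧ Algebra.IsSeparable (ResidueField A) (ResidueField B)) ↔
      Algebra.FormallyUnramified Ah Bh := by
  rw [Algebra.FormallyUnramified.iff_map_maximalIdeal_eq, map_eq_iff _ hψ, separable_residue_iff A B hψ, and_comm]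

theorem finite_residue_of_finiteType [Algebra.FiniteType Ah Bh] :
    Module.Finite (ResidueField Ah) (ResidueField Bh) := by
  haveI : Algebra.FiniteType Ah (ResidueField Bh) := Algebra.FiniteType.trans (S := Bh) ‹_›
    ((inferInstance : Algebra.FiniteType Bh Bh).of_surjective (Algebra.ofId Bh (ResidueField Bh)) residue_surjective)
  haveI : Algebra.FiniteType (ResidueField Ah) (ResidueField Bh) := Algebra.FiniteType.of_restrictScalars_finiteType Ah _ _
  exact finite_of_finite_type_of_isJacobsonRing _ _

end Groth.Agent.EtLocal7
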